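import Cfsg.Agent.H667.Pw.Ru
import Cfsg.Agent.H134.Sq.Base

/-!
# S2453, row Ru
-/

set_option autoImplicit false

namespace Cfsg.Agent.H667.Pw.Ru

/-- every element of Ru is a product of two squares -/
theorem sq_ru {S : Type*} [Group S] (h : Cfsg.Spor.IsoRu S) : Cfsg.Agent.H134.Sq.AllP 2 S := fun g =>
  (pw_ru h).pow (Or.inl Nat.prime_two.isPrimePow) g

end Cfsg.Agent.H667.Pw.Ru
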