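import Cfsg.Agent.H51.Ore.RuMain
import Cfsg.Agent.H78.Pw.Base

/-!
# S2465, row Ru: products of two elements of order prime to `6`, to `p ≥ 5`

Representatives and class list of helper51 (`H51/Ore/RuMain.lean`). A certificate for the word `w` is a word `u` with
`u ^ m = 1` and `(u⁻¹ w) ^ n = 1`.
-/

set_option autoImplicit false
set_option maxRecDepth 100000

namespace Cfsg.Agent.H667.Pw.Ru

open Cfsg.Agent.SporadicB.RuOrder Cfsg.Agent.SporRec.TCUpperCert Cfsg.Agent.SporRec.R3.Kernel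
open Cfsg.Agent.RuD.Letters Cfsg.Agent.H51.Ore.Ru Cfsg.Agent.H78.Pw
open Cfsg.Agent.SporadicB

/-- word, certificate, its inverse, orders -/
abbrev Ct : Type := List ℕ × List ℕ × List ℕ × ℕ × ℕ

/-- the relations of a certificate -/
def rels (c : Ct) : List (List ℕ) := [c.2.1 ++ c.2.2.1, rpw c.2.1 c.2.2.2.1, rpw (c.2.2.1 ++ c.1) c.2.2.2.2]

theorem spec {c : Ct} (h : chkRel (rels c) = true) :
    ∃ a b : RuOrder.H, wprod ml c.1 = a * b ∧ a ^ c.2.2.2.1 = 1 ∧ b ^ c.2.2.2.2 = 1 := by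
  have h1 := rel_of_chk h
  have r1 := h1 _ (List.mem_cons_self)
  have r2 := h1 _ (List.mem_cons_of_mem _ List.mem_cons_self)
  have r3 := h1 _ (List.mem_cons_of_mem _ (List.mem_cons_of_mem _ List.mem_cons_self))
  rw [wprod_append] at r1
  rw [wprod_rpw] at r2 r3
  refine ⟨wprod ml c.2.1, wprod ml (c.2.2.1 ++ c.1), ?_, r2, r3⟩
  rw [wprod_append, ← mul_assoc, r1, one_mul]

theorem pr_of {c : Ct} (h : chkRel (rels c) = true) {n : ℕ} (h1 : Nat.Coprime c.2.2.2.1 n)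
    (h2 : Nat.Coprime c.2.2.2.2 n) : Pr n (wprod ml c.1 : RuOrder.H) := by
  obtain ⟨a, b, e, ha, hb⟩ := spec h
  exact ⟨a, b, e, Nat.Coprime.of_dvd_left (orderOf_dvd_of_pow_eq_one ha) h1,
    Nat.Coprime.of_dvd_left (orderOf_dvd_of_pow_eq_one hb) h2⟩

/-- elements of order 1, 5, 7, 13 -/
def c6 : List Ct := [
  ([], [], [], 1, 1), (w_2a, [0, 5, 4], [8, 5, 0], 5, 5), (w_2b, [1, 3], [7, 6], 7, 5),
  (w_3a, [4, 5, 0], [0, 5, 8], 5, 5), (w_4a, [2, 3, 6], [1, 7, 2], 5, 5), (w_4b, [7, 7], [3, 3], 7, 5),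
  (w_4c, [8, 0, 5], [5, 0, 4], 5, 5), (w_4d, [7], [3], 7, 7), (w_5a, [6, 2, 6], [1, 2, 1], 5, 1),
  (w_5b, [], [], 1, 5), (w_6a, [3], [7], 7, 7), (w_7a, [3, 3], [7, 7], 7, 1), (w_8a, [3, 1, 3], [7, 6, 7], 7, 5),
  (w_8b, [0, 4, 5], [5, 8, 0], 5, 5), (w_8c, [5, 4, 0, 8], [4, 0, 8, 5], 5, 5), (w_10a, [0, 5, 4], [8, 5, 0], 5, 5),
  (w_10b, [7, 7], [3, 3], 7, 7), (w_12a, [3, 3], [7, 7], 7, 5), (w_12b, [6, 7], [3, 1], 7, 7),
  (w_13a, [1, 3], [7, 6], 7, 5), (w_14a, [2, 6, 7], [3, 1, 2], 5, 5), (w_14b, [0, 3, 5, 4], [8, 5, 7, 0], 7, 5),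
  (w_14c, [0, 3, 3, 5], [5, 7, 7, 0], 13, 5), (w_15a, [4, 0, 5, 4], [8, 5, 0, 8], 5, 5),
  (w_16a, [0, 5, 4], [8, 5, 0], 5, 5), (w_20a, [7, 7, 1, 2, 7], [3, 2, 6, 3, 3], 5, 5),
  (w_20b, [7, 7, 7, 6, 2], [2, 1, 3, 3, 3], 5, 5), (w_20c, [4, 0, 5, 4], [8, 5, 0, 8], 5, 5),
  (w_24a, [2, 3, 6, 7], [3, 1, 7, 2], 5, 5), (w_24b, [3], [7], 7, 7), (w_26a, [3], [7], 7, 7),
  (w_26b, [1, 1, 3], [7, 6, 6], 7, 5), (w_26c, [0, 7, 5, 7], [3, 5, 3, 0], 13, 5),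
  (w_29a, [4, 0, 5, 4], [8, 5, 0, 8], 5, 5), (w_29b, [3, 3, 1], [6, 7, 7], 7, 5)]

/-- elements of order 1, 2, 3, 4 -/
def c5 : List Ct := [
  ([], [], [], 1, 1), (w_2a, [], [], 1, 2), (w_2b, [], [], 1, 2), (w_3a, [0, 5], [5, 0], 3, 1),
  (w_4a, [4], [8], 3, 3), (w_4b, [2, 5], [5, 2], 2, 2), (w_4c, [], [], 1, 4), (w_4d, [2, 5], [5, 2], 2, 2),
  (w_5a, [2], [2], 2, 2), (w_5b, [0], [0], 2, 2), (w_6a, [5], [5], 2, 2), (w_7a, [2], [2], 2, 2),
  (w_8a, [0, 5], [5, 0], 3, 3), (w_8b, [0, 4, 7], [3, 8, 0], 3, 3), (w_8c, [5, 0], [0, 5], 3, 3),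
  (w_10a, [2], [2], 2, 2), (w_10b, [2, 5], [5, 2], 2, 2), (w_12a, [0, 2], [2, 0], 2, 2),
  (w_12b, [0, 5], [5, 0], 3, 3), (w_13a, [2], [2], 2, 2), (w_14a, [2, 5], [5, 2], 2, 2), (w_14b, [2], [2], 2, 2),
  (w_14c, [2], [2], 2, 2), (w_15a, [5], [5], 2, 2), (w_16a, [0, 8, 7], [3, 4, 0], 3, 3),
  (w_20a, [4, 3, 3], [7, 7, 8], 3, 4), (w_20b, [0, 6], [1, 0], 4, 4), (w_20c, [5], [5], 2, 2),
  (w_24a, [5, 0], [0, 5], 3, 3), (w_24b, [0, 5], [5, 0], 3, 4), (w_26a, [0, 2], [2, 0], 2, 2),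
  (w_26b, [2, 5], [5, 2], 2, 2), (w_26c, [2], [2], 2, 2), (w_29a, [5], [5], 2, 2), (w_29b, [5], [5], 2, 2)]

theorem all_split {f : Ct → Bool} {l : List Ct} (n : ℕ) (h1 : allL f (l.take n) = true)
    (h2 : allL f (l.drop n) = true) : allL f l = true := by
  refine (allL_iff _ _).2 fun c hc => ?_
  rw [← List.take_append_drop n l] at hc
  rcases List.mem_append.1 hc with hc | hc
  · exact (allL_iff _ _).1 h1 c hc
  · exact (allL_iff _ _).1 h2 c hc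

/-- the check of `c6` -/
noncomputable def P6 (c : Ct) : Bool := chkRel (rels c) && Nat.beq (Nat.gcd c.2.2.2.1 6) 1 && Nat.beq (Nat.gcd c.2.2.2.2 6) 1

theorem ok6a : allL P6 (c6.take 12) = true := by decide +kernel
theorem ok6b : allL P6 ((c6.drop 12).take 8) = true := by decide +kernel
theorem ok6c : allL P6 (((c6.drop 12).drop 8).take 8) = true := by decide +kernel
theorem ok6d : allL P6 (((c6.drop 12).drop 8).drop 8) = true := by decide +kernel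

theorem ok6 : allL (fun c => chkRel (rels c) && Nat.beq (Nat.gcd c.2.2.2.1 6) 1 && Nat.beq (Nat.gcd c.2.2.2.2 6) 1) c6 =
    true := all_split (f := P6) 12 ok6a (all_split 8 ok6b (all_split 8 ok6c ok6d))

/-- the check of `c5` -/
noncomputable def P5 (c : Ct) : Bool := chkRel (rels c) && Nat.beq (Nat.mod 12 c.2.2.2.1) 0 && Nat.beq (Nat.mod 12 c.2.2.2.2) 0

theorem ok5a : allL P5 (c5.take 16) = true := by decide +kernel
theorem ok5b : allL P5 ((c5.drop 16).take 10) = true := by decide +kernel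
theorem ok5c : allL P5 ((c5.drop 16).drop 10) = true := by decide +kernel

theorem ok5 : allL (fun c => chkRel (rels c) && Nat.beq (Nat.mod 12 c.2.2.2.1) 0 && Nat.beq (Nat.mod 12 c.2.2.2.2) 0)
    c5 = true := all_split (f := P5) 16 ok5a (all_split 10 ok5b ok5c)

theorem map6 : c6.map Prod.fst = cls.map Cl.w := rfl

theorem map5 : c5.map Prod.fst = cls.map Cl.w := rfl

/-- the class list -/
theorem all_of {n : ℕ} {l : List Ct} (hm : l.map Prod.fst = cls.map Cl.w)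
    (h : ∀ c ∈ l, Pr n (wprod ml c.1 : RuOrder.H)) : All n RuOrder.H := by
  have key : ∀ r ∈ cls, Pr n (wprod ml r.w : RuOrder.H) := by
    intro r hr
    have h1 : r.w ∈ l.map Prod.fst := by
      rw [hm]
      exact List.mem_map_of_mem hr
    obtain ⟨c, hc, e⟩ := List.mem_map.1 h1
    rw [← e]
    exact h c hc
  intro g
  rcases cover g with ⟨r, hr, hc⟩ | hc
  · exact (key r hr).of_isConj hc
  · have hmem : (⟨w_16a, 16, (600, 794)⟩ : Cl) ∈ cls := by simp [cls]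
    exact (key _ hmem).inv.of_isConj hc

theorem all_six : All 6 RuOrder.H := by
  refine all_of map6 fun c hc => ?_
  have h := (allL_iff _ _).1 ok6 c hc
  rw [Bool.and_eq_true, Bool.and_eq_true] at h
  exact pr_of h.1.1 (Nat.eq_of_beq_eq_true h.1.2) (Nat.eq_of_beq_eq_true h.2)

theorem all_prime (p : ℕ) (hp : p.Prime) (h5 : 5 ≤ p) : All p RuOrder.H := by
  have key : ∀ n : ℕ, Nat.mod 12 n = 0 → n.Coprime p := by
    intro n hn
    have h1 : n ∣ 12 := Nat.dvd_of_mod_eq_zero hn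
    have h2 : Nat.Coprime 12 p := by
      rw [Nat.coprime_comm, Nat.Prime.coprime_iff_not_dvd hp]
      intro h3
      have h4 : p ∣ 2 * 2 * 3 := h3
      rcases (Nat.Prime.dvd_mul hp).1 h4 with h | h
      · rcases (Nat.Prime.dvd_mul hp).1 h with h | h <;>
        · have := Nat.le_of_dvd (by norm_num) h
          omega
      · have := Nat.le_of_dvd (by norm_num) h
        omega
    exact Nat.Coprime.of_dvd_left h1 h2
  refine all_of map5 fun c hc => ?_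
  have h := (allL_iff _ _).1 ok5 c hc
  rw [Bool.and_eq_true, Bool.and_eq_true] at h
  exact pr_of h.1.1 (key _ (Nat.eq_of_beq_eq_true h.1.2)) (key _ (Nat.eq_of_beq_eq_true h.2))

theorem pw_H : Pw RuOrder.H := ⟨all_six, all_prime⟩

/-- **S2465, row Ru** -/
theorem pw_ru {S : Type*} [Group S] (h : Cfsg.Spor.IsoRu S) : Pw S := by
  obtain ⟨e⟩ := h
  exact ⟨All.congr (e.trans Cfsg.Agent.RuLat.Main.equiv).symm all_six,
    fun p hp h5 => All.congr (e.trans Cfsg.Agent.RuLat.Main.equiv).symm (all_prime p hp h5)⟩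

end Cfsg.Agent.H667.Pw.Ru
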